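import Groth.Agent.DecSec.QuotDiag
import Groth.Agent.ASt.DiagRepDesc
import Groth.Agent.Boot.SmoothAtlas
import Groth.Agent.QAffDiagLib.Basic
import Groth.Agent.ASp.ImmDescQC
/-!
Diagonals of quotient stacks of affine flat groups for the fppf topology.
-/

set_option autoImplicit false
set_option backward.isDefEq.respectTransparency false
set_option backward.isDefEq.respectTransparency.types false
set_option linter.unusedSectionVars false
set_option linter.style.haveILetI false

universe u

open CategoryTheory CategoryTheory.Limits AlgebraicGeometry Opposite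

namespace Groth.Agent.QuotDiagFppf

open Groth.Agent.ASp Groth.Agent.ASt Groth.Agent.RepOne Groth.Agent.DecSec.QuotSch
open _root_.AlgSp (Sp yon J IsAlgSpace LocP IsAlgSpaceP RepWith IsAffineMor IsQuasiAffineMor IsSeparatedMor)

variable {S : Scheme.{u}}

/-- A stack with a representable flat surjective chart of finite presentation has representable diagonal. -/
theorem repByAlgSp1_diag_of_fppf_chart {𝒳 : AlgSt.Cat S} [FibCat.IsFibGrpd 𝒳.p]
    (hX : Stk.IsStack (QuotSh.J Scheme.fppfPrecoverage S) 𝒳) {W : Over S} (a : FibCat.overCat W ⥤ᵇ 𝒳)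
    (hfl : AlgSt.RepByAlgSpWith (LocP @Flat) a)
    (hfp : AlgSt.RepByAlgSpWith (LocP @LocallyOfFinitePresentation) a) (hsu : AlgSt.IsSurjective a) :
    AlgSt.RepByAlgSp1 (FibCat.diag (FibCat.toSelf 𝒳)) := by
  refine repByAlgSp1_diag_iff.2 fun U x => ?_
  haveI : x.toFunctor.Faithful := faithful_of_faithful_source x
  refine repByAlgSp1_iff.2 ⟨inferInstance, fun V y => ?_⟩
  obtain ⟨V', l, g', hl, hlp, hls, ⟨α⟩⟩ :=
    exists_fppf_lift (BasedFunctor.id (FibCat.overCat W)) (z := a) hfl hfp hsu y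
  have ha := repByAlgSp1_of_with hfl
  have hy' : AlgSt.RepByAlgSp1 (BasedFunctor.comp g' a) :=
    repByAlgSp1_comp (repByAlgSp1_of_repByAlgSp (repByAlgSp_overCat V') (repByAlgSp_overCat W) g') ha
  haveI : FibCat.IsFibGrpd (FibCat.fp y x).p := isFibGrpd_fp
  haveI : (FibCat.fpFst y x).toFunctor.Faithful := faithful_fpFst
  haveI : (FibCat.fp y x).p.Faithful := inferInstance
  have hsF : Presheaf.IsSheaf (J S) (fib y x) := (isSheaf_iff_isSheaf_of_type _ _).2
    (isStack_ofPsh_iff.1 (isStack_of_isEquivOver isEquivOver_toPsh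
      (isStack_fp (F := y) (G := x) (isAlgStack_overCat V).isStack (isAlgStack_overCat U).isStack
        (isPrestack_of_isStack hX))))
  obtain ⟨hs', hA'⟩ : IsAlgSpaceP (fib (BasedFunctor.comp (AlgSt.overMap l) y) x) :=
    (isAlgSpaceP_swap x (BasedFunctor.comp g' a) ((repByAlgSp1_iff.1 hy').2 U x)).of_iso (changeIso α x)
  refine ⟨hsF, isAlgSpace_of_fppf_baseChange l
    (IsPullback.of_map_of_faithful (sheafToPresheaf (J S) (Type (u + 1))) (isPullback_restrF l y) :
      IsPullback (ObjectProperty.homMk (clFun (restrF l y x)) :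
          (⟨fib (BasedFunctor.comp (AlgSt.overMap l) y) x, hs'⟩ : Sp S) ⟶ (⟨fib y x, hsF⟩ : Sp S))
        (ObjectProperty.homMk (fibπ (BasedFunctor.comp (AlgSt.overMap l) y) x))
        (ObjectProperty.homMk (fibπ y x)) ((yon S).map l)) hA'⟩

/-- A morphism of schemes inherits the property of its functor of slices. -/
theorem prop_of_overMap {P : MorphismProperty (Sp S)} [P.RespectsIso] {A B : Over S} {k : A ⟶ B}
    (h : AlgSt.RepByAlgSpWith P (AlgSt.overMap k)) : P ((yon S).map k) := by
  obtain ⟨hs, hA, hP⟩ := (repByAlgSpWith_iff.1 h).2 B (AlgSt.overMap (𝟙 B))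
  have sq : IsPullback (ObjectProperty.homMk (fibSnd (𝟙 B) k) :
        (⟨fib (AlgSt.overMap (𝟙 B)) (AlgSt.overMap k), hs⟩ : Sp S) ⟶ (yon S).obj A)
      (ObjectProperty.homMk (fibπ (AlgSt.overMap (𝟙 B)) (AlgSt.overMap k))) ((yon S).map k) ((yon S).map (𝟙 B)) :=
    IsPullback.of_map_of_faithful (sheafToPresheaf (J S) (Type (u + 1))) (isPullback_overMap (𝟙 B) k)
  haveI : IsIso ((yon S).map (𝟙 B)) := inferInstance
  haveI := sq.isIso_fst_of_isIso
  have e := sq.w
  rw [CategoryTheory.Functor.map_id, Category.comp_id] at e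
  rw [← e] at hP
  exact (P.cancel_left_of_respectsIso _ _).1 hP

theorem isAffineHom_of_isAffineMor {A B : Over S} {k : A ⟶ B} (h : IsAffineMor ((yon S).map k)) :
    IsAffineHom k.left := by
  refine ⟨fun V hV => ?_⟩
  let j : Over.mk (V.ι ≫ B.hom) ⟶ B := Over.homMk V.ι rfl
  obtain ⟨W, i, fst, sq, hW⟩ := h (Z := Over.mk (V.ι ≫ B.hom)) hV ((yon S).map j)
  obtain ⟨f₀, rfl⟩ := (yon S).map_surjective fst
  haveI := hW
  exact IsAffine.of_isIso ((isPullback_morphismRestrict k.left V).flip.isoIsPullback _ _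
    (isPullback_left (isPullback_of_yon_map sq))).hom

theorem isSeparatedMor_of_isAffineMor {X Y : Sp S} {f : X ⟶ Y} (hX : IsAlgSpace X) (hY : IsAlgSpace Y)
    (h : IsAffineMor f) : IsSeparatedMor f := by
  have h1 := repWith_mono (fun _ _ g (hg : IsAffineHom g) => (haveI := hg; inferInstance : IsSeparated g))
    (repWith_isAffineHom_of_isAffineMor hX hY h)
  exact (isSeparatedMor_iff h1.1).2 h1

/-- The diagonal of a slice, in both directions. -/
theorem repByAlgSpWith_diag_overCat_iff {P : MorphismProperty (Sp S)} [P.RespectsIso] (U : Over S) :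
    AlgSt.RepByAlgSpWith P (FibCat.diag (FibCat.toSelf (FibCat.overCat U))) ↔
    AlgSt.RepByAlgSpWith P (AlgSt.overMap (Limits.diag U)) := by
  let T' := FibCat.toSelf (FibCat.overCat U)
  let e := funIso (y := BasedFunctor.comp (mapF (Limits.prod.fst : U ⨯ U ⟶ U)) T')
    (y' := BasedFunctor.comp (mapF (Limits.prod.snd : U ⨯ U ⟶ U)) T') (𝟙 (U ⨯ U)) rfl
  let b := FibCat.fpLift (mapF (Limits.prod.fst : U ⨯ U ⟶ U)) (mapF (Limits.prod.snd : U ⨯ U ⟶ U)) e
  have hb : FibCat.IsEquivOver b := by
    have : b.toFunctor.Faithful :=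
      ⟨fun {g g'} {u v} h => Over.OverMorphism.ext (congrArg (fun t => t.hom.fst.left) h :)⟩
    have : b.toFunctor.Full := ⟨fun {g g'} h => by
      have e1 : h.hom.snd.left = h.hom.fst.left := by
        refine (fp_map_snd h).trans ?_
        exact (Category.id_comp _).trans (Category.comp_id _)
      refine ⟨Over.homMk h.hom.fst.left (Limits.prod.hom_ext ?_ ?_), fp_hom_ext (Over.OverMorphism.ext rfl)
        (Over.OverMorphism.ext e1.symm)⟩
      · exact (Category.assoc _ _ _).trans (Over.w h.hom.fst)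
      · have := Over.w h.hom.snd
        rw [e1] at this
        exact (Category.assoc _ _ _).trans this⟩
    refine isEquivOver_of_vert b fun z => ?_
    have hz : z.obj.snd.left = z.obj.fst.left := fp_snd_base z
    refine ⟨ov (Limits.prod.lift z.obj.fst.hom (eqToHom hz.symm ≫ z.obj.snd.hom)), rfl,
      fpIsoMk (Over.isoMk (Iso.refl _) ((Category.id_comp _).trans (Limits.prod.lift_fst _ _).symm))
        (Over.isoMk (eqToIso hz.symm) (Limits.prod.lift_snd _ _).symm) ?_, ?_⟩
    · apply (FibCat.selfOver (Over S)).p.map_injective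
      rw [Functor.map_comp, Functor.map_comp, fp_iso_map, fp_iso_map, map_w, map_w]
      simp [ov_p_map]
      exact (Category.id_comp _).trans rfl
    · rfl
  let c : BasedFunctor.comp (mapF (Limits.diag U)) b ≅
      BasedFunctor.comp (BasedFunctor.id _) (FibCat.diag T') :=
    BasedNatIso.mkNatIso (NatIso.ofComponents (fun g => fpIsoMk
      (Over.isoMk (Iso.refl g.left) (by change 𝟙 g.left ≫ g.hom = (g.hom ≫ Limits.diag U) ≫ Limits.prod.fst; simp))
      (Over.isoMk (Iso.refl g.left) (by change 𝟙 g.left ≫ g.hom = (g.hom ≫ Limits.diag U) ≫ Limits.prod.snd; simp))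
      (by
        apply (FibCat.selfOver (Over S)).p.map_injective
        rw [Functor.map_comp, Functor.map_comp, fp_iso_map, fp_iso_map, map_w, map_w]
        simp [ov_p_map]
        try rfl))
      (fun {g g'} u => fp_hom_ext (Over.OverMorphism.ext ((Category.comp_id _).trans (Category.id_comp _).symm))
        (Over.OverMorphism.ext ((Category.comp_id _).trans (Category.id_comp _).symm))))
      (fun g => isHomLift_id_of_map _ rfl (e := rfl) rfl)
  haveI : FibCat.IsFibGrpd (FibCat.fp T' T').p := isFibGrpd_fp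
  exact repByAlgSpWith_iff_of_square isEquivOver_id hb c

variable {G : Over S} [GrpObj G] {X : Over S} {aX : AlgGrp.Action G X}

local notation "Q" => AlgSt.QuotSt Scheme.fppfPrecoverage G aX

/-- The chart of the quotient. -/
noncomputable abbrev qF (G : Over S) [GrpObj G] {X : Over S} (aX : AlgGrp.Action G X) :
    FibCat.overCat X ⥤ᵇ AlgSt.QuotSt Scheme.fppfPrecoverage G aX :=
  BasedFunctor.comp (AlgSt.ofOverCat X) (AlgSt.quotMap Scheme.fppfPrecoverage G aX)

variable [IsAffineHom G.hom] [Flat G.hom] [LocallyOfFinitePresentation G.hom]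

theorem qF_props : AlgSt.RepByAlgSpWith (LocP @Flat) (qF G aX) ∧
    AlgSt.RepByAlgSpWith (LocP @LocallyOfFinitePresentation) (qF G aX) ∧
    AlgSt.IsSurjective (qF G aX) ∧ AlgSt.RepByAlgSpWith IsAffineMor (qF G aX) := by
  haveI := isFibGrpd_quot (K := Scheme.fppfPrecoverage) (G := G) (aX := aX)
  exact ⟨repByAlgSpWith_qFun fun A => locP_π (P := @Flat) ‹_› A,
    repByAlgSpWith_qFun fun A => locP_π (P := @LocallyOfFinitePresentation) ‹_› A,
    isSurjective_of_repByAlgSpWith repByAlgSpWith_qFun_surjective,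
    repByAlgSpWith_qFun fun A => isAffineMor_π A⟩

theorem repByAlgSp1_diag_quot : AlgSt.RepByAlgSp1 (FibCat.diag (FibCat.toSelf Q)) := by
  haveI := isFibGrpd_quot (K := Scheme.fppfPrecoverage) (G := G) (aX := aX)
  exact repByAlgSp1_diag_of_fppf_chart isStack_quot _ qF_props.1 qF_props.2.1 qF_props.2.2.1

/-- The diagonal of the quotient has a property of affine maps which the diagonal of the scheme has. -/
theorem diag_quot_of_diag {P : MorphismProperty (Sp S)} [P.RespectsIso] (hP : CompLocal P)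
    (hP₂ : _root_.AlgSp.IsLocalOnBase _root_.AlgSp.IsFppfCover P)
    (hle : ∀ ⦃A B : Sp S⦄ (f : A ⟶ B), IsAffineMor f → P f)
    (hd : ∀ {T W : Over S} (k : T ⟶ X ⨯ X) (a : W ⟶ X) (b : W ⟶ T),
      IsPullback a b (Limits.diag X) k → P ((yon S).map b)) :
    AlgSt.RepByAlgSpWith P (FibCat.diag (FibCat.toSelf Q)) := by
  haveI := isFibGrpd_quot (K := Scheme.fppfPrecoverage) (G := G) (aX := aX)
  obtain ⟨hfl, hfp, hsu, haff⟩ := qF_props (G := G) (aX := aX)
  haveI : FibCat.IsFibGrpd (FibCat.fp (FibCat.toSelf Q) (FibCat.toSelf Q)).p := isFibGrpd_fp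
  haveI : FibCat.IsFibGrpd (FibCat.fp (BasedFunctor.comp (qF G aX) (FibCat.toSelf Q))
    (BasedFunctor.comp (qF G aX) (FibCat.toSelf Q))).p := isFibGrpd_fp
  haveI : FibCat.IsFibGrpd (FibCat.fp (qF G aX) (qF G aX)).p := isFibGrpd_fp
  have hd' : AlgSt.RepByAlgSpWith P (FibCat.diag (BasedFunctor.comp (qF G aX) (FibCat.toSelf Q))) := by
    rw [show BasedFunctor.comp (qF G aX) (FibCat.toSelf Q) = FibCat.toSelf (FibCat.overCat X) from comp_toSelf _]
    exact (repByAlgSpWith_diag_overCat_iff X).2 (repByAlgSpWith_overMap hd)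
  exact repByAlgSpWith_diag_toSelf_of_chart hP₂ repByAlgSp1_diag_quot hfl hfp hsu
    (repByAlgSpWith_of_comp hP
      (g := FibCat.fpFst (BasedFunctor.comp (qF G aX) (FibCat.toSelf _)) (BasedFunctor.comp (qF G aX) (FibCat.toSelf _)))
      (repByAlgSpWith_fpFst _ (repByAlgSpWith_mono (fun _ _ f _ _ h => hle f h) haff))
      (repByAlgSpWith_diag_fpFst _ _ hd'))

/-- An affine diagonal of the quotient makes the diagonal of the scheme affine. -/
theorem diag_of_diag_quot (h : AlgSt.RepByAlgSpWith IsAffineMor (FibCat.diag (FibCat.toSelf Q))) :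
    IsAffineHom (Limits.diag X).left := by
  haveI := isFibGrpd_quot (K := Scheme.fppfPrecoverage) (G := G) (aX := aX)
  obtain ⟨-, -, -, haff⟩ := qF_props (G := G) (aX := aX)
  haveI : FibCat.IsFibGrpd (FibCat.fp (BasedFunctor.comp (qF G aX) (FibCat.toSelf Q))
    (BasedFunctor.comp (qF G aX) (FibCat.toSelf Q))).p := isFibGrpd_fp
  haveI : FibCat.IsFibGrpd (FibCat.fp (qF G aX) (qF G aX)).p := isFibGrpd_fp
  have h1 : AlgSt.RepByAlgSpWith IsAffineMor (FibCat.diag (qF G aX)) :=
    repByAlgSpWith_diag_of_isSeparatedMor (fun e he => (haveI := he; isAffineMor_yon_map e))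
      (repByAlgSpWith_mono (fun _ _ _ hA hB hf => isSeparatedMor_of_isAffineMor hA hB hf) haff)
  have h2 := repByAlgSpWith_congr (diagCompJ (qF G aX) (FibCat.toSelf Q))
    (repByAlgSpWith_comp compLocal_affine h1 (repByAlgSpWith_compJ _ _ h))
  rw [show BasedFunctor.comp (qF G aX) (FibCat.toSelf Q) = FibCat.toSelf (FibCat.overCat X) from comp_toSelf _] at h2
  exact isAffineHom_of_isAffineMor (prop_of_overMap ((repByAlgSpWith_diag_overCat_iff X).1 h2))

end Groth.Agent.QuotDiagFppf
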